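/-
Kernel checks for the seven transposition pairs in Fi24.
-/
import Cfsg.Agent.Lib.CosetEnum.AutCent
import Cfsg.Agent.Lib.CosetEnum.Fi24Table.ThreeSeven.Data

set_option autoImplicit false
set_option maxRecDepth 1000000

namespace CfsgLib.CosetEnum.Fi24Table.ThreeSeven

open CfsgLib.CosetEnum

/-- The word of a member. -/
noncomputable def tw (j : ℕ) : List ℕ := tWords.getD j []

/-- The point of a member. -/
noncomputable def tp (j : ℕ) : ℕ := tPts.getD j (nat_lit 0)

/-- The permutation of a member. -/
noncomputable def tf (j : ℕ) (d : ℕ) : ℕ := conjMap table (nat_lit 12) (fun e => table.act (nat_lit 12) e (nat_lit 0)) (tw j) d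

/-- The permutation of a product of members. -/
noncomputable def lf (l : List ℕ) (d : ℕ) : ℕ :=
  List.rec (motive := fun _ => ℕ) d (fun j _ ih => force ih (tf j)) l

/-- Two products agree at the points of the generators. -/
noncomputable def lEq (a b : List ℕ) : Bool :=
  genPts24.all fun d => force d fun d' => Nat.beq (lf a d') (lf b d')

/-- The product of powers of the seven elements. -/
def powList (v : List ℕ) : List ℕ := ((List.range 7).map fun i => (List.replicate (v.getD i 0) [i, 7 + i]).flatten).flatten

theorem words_ok : ((List.range 65).all fun j => ((tw j).all fun x => Nat.blt x 12) && Nat.blt (tp j) 306936 &&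
    Nat.beq (runT table 12 (tw j).reverse 0) (tp j)) = true := by decide +kernel

theorem nc_ok : ((List.range 7).all fun i => !(Nat.beq (tf i (tp (7 + i))) (tp (7 + i)))) = true := by decide +kernel

theorem comm_ok : ((List.range 7).all fun i => (List.range 7).all fun j =>
    lEq [i, 7 + i, j, 7 + j] [j, 7 + j, i, 7 + i]) = true := by decide +kernel

theorem act_ok : ((List.range 7).all fun i => (List.range 7).all fun j =>
    lEq [i, j, 7 + j, i] ([j, 7 + j] ++ (List.replicate ((3 - (gram.getD i []).getD j 0) % 3) [i, 7 + i]).flatten)) =
    true := by decide +kernel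

theorem rel_ok : (relWord.all fun i => Nat.blt i 7) = true ∧ lEq relWord (powList relVal) = true := by decide +kernel

theorem steps_ok : (steps.all fun s => Nat.blt s.1 65 && Nat.blt s.2.1 s.1 && Nat.blt s.2.2 s.1 &&
    Nat.beq (tf s.2.1 (tp s.2.2)) (tp s.1)) = true := by decide +kernel

/-- Every member after the fourteenth is given by a step or by a profile. -/
theorem cover_ok : ((List.range 65).all fun j => Nat.blt j 14 || (steps.any fun s => Nat.beq s.1 j) ||
    (profs.any fun s => Nat.beq s.1 j)) = true := by decide +kernel

/-- The commuting of a member with a point. -/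
noncomputable def cm (j w : ℕ) : Bool := Nat.beq (tf j w) w

/-- The member is the only point of the common commutant with its profile. -/
noncomputable def profOK (s : ℕ × List ℕ) : Bool :=
  Nat.blt s.1 65 && (s.2.all fun j => Nat.blt j s.1) && cm 0 (tp s.1) && cm 7 (tp s.1) &&
    !(Nat.beq (tp s.1) (tp 0)) && !(Nat.beq (tp s.1) (tp 7)) &&
    wPts.all fun w => force w fun w' =>
      Nat.beq w' (tp s.1) || s.2.any fun j => Bool.rec (cm j (tp s.1)) (!(cm j (tp s.1))) (cm j w')

theorem profs_ok : profs.all profOK = true := by decide +kernel

/-- Strictly increasing. -/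
noncomputable def incr (l : List ℕ) : ℕ → Bool :=
  List.rec (motive := fun _ => ℕ → Bool) (fun _ => true) (fun w _ ih prev => Nat.blt prev w && ih w) l

theorem wPts_ok : (incr wPts (nat_lit 1) && Nat.beq wPts.length (nat_lit 3240) &&
    wPts.all (fun w => force w fun w' => cm 0 w' && cm 7 w' && !(Nat.beq w' (tp 0)) && !(Nat.beq w' (tp 7)) &&
      Nat.blt w' 306936)) = true := by
  decide +kernel

theorem gens_ok : (genIdx.length == 12 && (List.range 12).all fun y =>
    Nat.blt (genIdx.getD y 0) 65 && Nat.beq (tp (genIdx.getD y 0)) (genPts24.getD y 0)) = true := by decide +kernel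

end CfsgLib.CosetEnum.Fi24Table.ThreeSeven
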