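/-
Seven transposition pairs in the presented Fi24 spanning a subgroup of order 3^7, and their rigidity.
-/
import Cfsg.Agent.Lib.CosetEnum.Fi24Table.Out.Base
import Cfsg.Agent.Lib.CosetEnum.Fi24Table.ThreeSeven.Checks

set_option autoImplicit false
set_option maxRecDepth 1000000

namespace CfsgLib.CosetEnum.Fi24Table.ThreeSeven

open Cfsg CfsgLib.CosetEnum
open CfsgLib.CosetEnum.Fi24Table.Out (At)

local notation "P" => presFi24.Grp

/-- A member. -/
noncomputable def tr (j : ℕ) : P := Out.dW (tw j)

theorem words_facts {j : ℕ} (hj : j < 65) : (∀ x ∈ tw j, x < 12) ∧ tp j < 306936 ∧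
    runT table 12 (tw j).reverse 0 = tp j := by
  have h := List.all_eq_true.mp words_ok j (List.mem_range.mpr hj)
  simp only [Bool.and_eq_true, List.all_eq_true, Nat.blt_eq] at h
  exact ⟨h.1.1, h.1.2, Nat.eq_of_beq_eq_true h.2⟩

theorem at_tr {j : ℕ} (hj : j < 65) : At (tr j) (tp j) :=
  Out.at_W (words_facts hj).1 (words_facts hj).2.1 (words_facts hj).2.2

theorem real_tr {j : ℕ} (hj : j < 65) : cert.Realises hltRels (tr j) (tf j) :=
  Out.real_W (words_facts hj).1

theorem tr_mem {j : ℕ} (hj : j < 65) : tr j ∈ Dset := (at_tr hj).mem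

theorem tr_sq {j : ℕ} : tr j * tr j = 1 := by
  rw [tr, Out.dW, show ∀ w s : P, w * s * w⁻¹ * (w * s * w⁻¹) = w * (s * s) * w⁻¹ from fun w s => by group, presFi24.σ_sq]
  group

theorem real_list : ∀ l : List ℕ, (∀ j ∈ l, j < 65) → cert.Realises hltRels (l.map tr).prod (lf l) := by
  intro l
  induction l with
  | nil => intro _ d; rw [List.map_nil, List.prod_nil, map_one]; rfl
  | cons j l ih =>
    intro h d
    rw [List.map_cons, List.prod_cons, map_mul, Equiv.Perm.mul_apply, real_tr (h j (List.mem_cons_self ..)),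
      ih (fun x hx => h x (List.mem_cons_of_mem _ hx))]
    exact (force_eq _ _).symm

theorem eq_of_lEq {a b : List ℕ} (ha : ∀ j ∈ a, j < 65) (hb : ∀ j ∈ b, j < 65) (h : lEq a b = true) :
    (a.map tr).prod = (b.map tr).prod := by
  refine (inv_mul_eq_one.mp (one_of_fix_gens (g := ((b.map tr).prod)⁻¹ * (a.map tr).prod) fun d hd => ?_)).symm
  have h' := List.all_eq_true.mp h _ hd
  rw [force_eq] at h'
  have e : cert.hom hltRels (a.map tr).prod d = cert.hom hltRels (b.map tr).prod d := Fin.ext
    ((real_list a ha d).trans ((Nat.eq_of_beq_eq_true h').trans (real_list b hb d).symm))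
  rw [map_mul, Equiv.Perm.mul_apply, e, map_inv]
  exact Equiv.symm_apply_apply _ _

theorem not_comm {i : ℕ} (hi : i < 7) : ¬ Commute (tr i) (tr (7 + i)) := fun h => by
  have hb := List.all_eq_true.mp nc_ok i (List.mem_range.mpr hi)
  have := (At.comm (real_tr (show i < 65 by omega)) (at_tr (show 7 + i < 65 by omega))).mpr h
  rw [this, Nat.beq_refl] at hb
  exact absurd hb (by decide)

theorem pair_comm {i j : ℕ} (hi : i < 7) (hj : j < 7) : Commute (tr i * tr (7 + i)) (tr j * tr (7 + j)) := by
  have h := eq_of_lEq (a := [i, 7 + i, j, 7 + j]) (b := [j, 7 + j, i, 7 + i]) (by simp; omega) (by simp; omega)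
    (List.all_eq_true.mp (List.all_eq_true.mp comm_ok i (List.mem_range.mpr hi)) j (List.mem_range.mpr hj))
  simpa [Commute, SemiconjBy, mul_assoc] using h

theorem rep_prod (i n : ℕ) : (((List.replicate n [i, 7 + i]).flatten).map tr).prod = (tr i * tr (7 + i)) ^ n := by
  induction n with
  | zero => simp
  | succ n ih =>
    rw [List.replicate_succ, List.flatten_cons, List.map_append, List.prod_append, ih, pow_succ']
    simp

theorem rep_lt {i n : ℕ} (hi : i < 7) : ∀ x ∈ (List.replicate n [i, 7 + i]).flatten, x < 65 := fun x hx => by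
  obtain ⟨l, hl, hxl⟩ := List.mem_flatten.mp hx
  rw [(List.mem_replicate.mp hl).2] at hxl
  simp at hxl
  omega

theorem pair_act {i j : ℕ} (hi : i < 7) (hj : j < 7) : tr i * (tr j * tr (7 + j)) * (tr i)⁻¹ =
    tr j * tr (7 + j) * (tr i * tr (7 + i)) ^ ((3 - (gram.getD i []).getD j 0) % 3) := by
  have h := eq_of_lEq (a := [i, j, 7 + j, i]) (by simp; omega) (fun x hx => by
      rcases List.mem_append.mp hx with h | h
      · simp at h; omega
      · exact rep_lt hi x h)
    (List.all_eq_true.mp (List.all_eq_true.mp act_ok i (List.mem_range.mpr hi)) j (List.mem_range.mpr hj))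
  rw [List.map_append, List.prod_append, rep_prod] at h
  rw [inv_eq_of_mul_eq_one_right tr_sq]
  simpa [mul_assoc] using h

theorem pow_list (v : List ℕ) : ((powList v).map tr).prod =
    ((List.range 7).map fun i => (tr i * tr (7 + i)) ^ v.getD i 0).prod := by
  rw [powList, List.map_flatten, List.prod_flatten, List.map_map, List.map_map]
  exact congrArg List.prod (List.map_congr_left fun i _ => rep_prod i _)

theorem relation : (relWord.map tr).prod = ((List.range 7).map fun i => (tr i * tr (7 + i)) ^ relVal.getD i 0).prod := by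
  rw [← pow_list]
  refine eq_of_lEq (fun j hj => ?_) (by decide +kernel) rel_ok.2
  have := List.all_eq_true.mp rel_ok.1 j hj
  rw [Nat.blt_eq] at this
  omega

theorem incr_spec : ∀ (l : List ℕ) (p : ℕ), incr l p = true → l.Pairwise (· < ·) ∧ ∀ w ∈ l, p < w := by
  intro l
  induction l with
  | nil => intro p _; exact ⟨List.Pairwise.nil, by simp⟩
  | cons w l ih =>
    intro p h
    change (Nat.blt p w && incr l w) = true at h
    rw [Bool.and_eq_true, Nat.blt_eq] at h
    obtain ⟨h1, h2⟩ := ih w h.2
    refine ⟨List.pairwise_cons.mpr ⟨h2, h1⟩, fun x hx => ?_⟩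
    rcases List.mem_cons.mp hx with rfl | hx
    · exact h.1
    · exact h.1.trans (h2 x hx)

/-- The transpositions commuting with the first pair. -/
def common : Set P := {x | x ∈ Dset ∧ x ≠ tr 0 ∧ Commute (tr 0) x ∧ x ≠ tr 7 ∧ Commute (tr 7) x}

theorem cm_iff {j q : ℕ} (hj : j < 65) {x : P} (hx : At x q) : cm j q = true ↔ Commute (tr j) x :=
  ⟨fun h => (At.comm (real_tr hj) hx).mp (Nat.eq_of_beq_eq_true h),
    fun h => (congrArg (fun z => Nat.beq z q) ((At.comm (real_tr hj) hx).mpr h)).trans (Nat.beq_refl q)⟩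

theorem mem_common {w : ℕ} (hw : w ∈ wPts) : ∃ x ∈ common, At x w := by
  have h := wPts_ok
  simp only [Bool.and_eq_true, List.all_eq_true] at h
  have hb := h.2 w hw
  rw [force_eq] at hb
  simp only [Bool.and_eq_true, Bool.not_eq_true', Nat.blt_eq] at hb
  obtain ⟨⟨⟨⟨h0, h7⟩, n0⟩, n7⟩, hlt⟩ := hb
  obtain ⟨u, hu⟩ := cert.exists_hom_zero hltRels hidFi24 ⟨w, hlt⟩
  set x := u * presFi24.σ 0 * u⁻¹
  have hA : At x w := ⟨hlt, u, rfl, hu⟩
  refine ⟨x, ⟨hA.mem, ?_, (cm_iff (by norm_num) hA).mp h0, ?_, (cm_iff (by norm_num) hA).mp h7⟩, hA⟩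
  · intro e
    rw [(e ▸ hA : At (tr 0) w).inj (at_tr (show 0 < 65 by norm_num)), Nat.beq_refl] at n0
    exact absurd n0 (by decide)
  · intro e
    rw [(e ▸ hA : At (tr 7) w).inj (at_tr (show 7 < 65 by norm_num)), Nat.beq_refl] at n7
    exact absurd n7 (by decide)

theorem common_points (hc : common.ncard = 3240) {x : P} (hx : x ∈ common) : ∃ w ∈ wPts, At x w := by
  classical
  have h := wPts_ok
  simp only [Bool.and_eq_true] at h
  have hnd : wPts.Nodup := (incr_spec _ _ h.1.1).1.imp fun hab => Nat.ne_of_lt hab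
  let g : ℕ → P := fun w => if hw : w ∈ wPts then (mem_common hw).choose else 1
  have hg : ∀ w ∈ wPts, g w ∈ common ∧ At (g w) w := fun w hw => by
    simp only [g, dif_pos hw]; exact (mem_common hw).choose_spec
  have hsub : g '' {w | w ∈ wPts} ⊆ common := by
    rintro _ ⟨w, hw, rfl⟩; exact (hg w hw).1
  have hcard : (g '' {w | w ∈ wPts}).ncard = 3240 := by
    have hinj : Set.InjOn g {w | w ∈ wPts} := fun a ha b hb e =>
      (hg a ha).2.inj (show At (g a) b by rw [e]; exact (hg b hb).2)
    rw [Set.ncard_image_of_injOn hinj,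
      show {w | w ∈ wPts} = ((wPts.toFinset : Finset ℕ) : Set ℕ) by ext; simp, Set.ncard_coe_finset,
      List.toFinset_card_of_nodup hnd]
    exact Nat.eq_of_beq_eq_true h.1.2
  have e := Set.eq_of_subset_of_ncard_le hsub (by rw [hcard, hc]) (Set.finite_of_ncard_ne_zero (by rw [hc]; norm_num))
  rw [← e] at hx
  obtain ⟨w, hw, rfl⟩ := hx
  exact ⟨w, hw, (hg w hw).2⟩

theorem rigid (hc : common.ncard = 3240) {y : P} (hy : ∀ j < 14, Commute y (tr j)) : y = 1 := by
  have hall : ∀ j, j < 65 → Commute y (tr j) := by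
    intro j
    induction j using Nat.strong_induction_on with
    | _ j ih =>
      intro hj
      have hb := List.all_eq_true.mp cover_ok j (List.mem_range.mpr hj)
      simp only [Bool.or_eq_true, Nat.blt_eq, List.any_eq_true] at hb
      rcases hb with (hb | ⟨s, hs, he⟩) | ⟨s, hs, he⟩
      · exact hy j hb
      · have := Nat.eq_of_beq_eq_true he
        subst this
        have hh := List.all_eq_true.mp steps_ok s hs
        simp only [Bool.and_eq_true, Nat.blt_eq] at hh
        obtain ⟨⟨⟨-, ha⟩, hb⟩, hpt⟩ := hh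
        have hA := (at_tr (hb.trans hj)).conj (tr s.2.1)
        rw [show (cert.hom hltRels (tr s.2.1) ⟨tp s.2.2, _⟩ : ℕ) = tp s.1 from
          (real_tr (ha.trans hj) _).trans (Nat.eq_of_beq_eq_true hpt)] at hA
        rw [← hA.eq (at_tr hj)]
        exact ((ih _ ha (ha.trans hj)).mul_right (ih _ hb (hb.trans hj))).mul_right (ih _ ha (ha.trans hj)).inv_right
      · have := Nat.eq_of_beq_eq_true he
        subst this
        have hh := List.all_eq_true.mp profs_ok s hs
        simp only [profOK, Bool.and_eq_true, List.all_eq_true, Nat.blt_eq, Bool.not_eq_true'] at hh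
        obtain ⟨⟨⟨⟨⟨⟨-, hsel⟩, c0⟩, c7⟩, n0⟩, n7⟩, hw⟩ := hh
        have hA := at_tr hj
        have hcj : ∀ {u z : P}, Commute y u → (Commute u (y * z * y⁻¹) ↔ Commute u z) := fun {u z} hu => by
          have eu : (MulAut.conj y).toMonoidHom u = u := by simp [hu.eq]
          refine ⟨fun q => ?_, fun q => ?_⟩
          · have := q.map (MulAut.conj y⁻¹).toMonoidHom
            simpa [mul_assoc, hu.inv_left.eq] using this
          · have := q.map (MulAut.conj y).toMonoidHom
            rw [eu] at this
            simpa using this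
        set x := y * tr s.1 * y⁻¹ with hx
        have hne : ∀ {u : P}, Commute y u → x = u → tr s.1 = u := fun {u} hu e => by
          rw [← show y⁻¹ * u * y = tr s.1 by rw [← e, hx]; group, mul_assoc, ← hu.eq, inv_mul_cancel_left]
        obtain ⟨g, hg⟩ := isConj_iff.mp hA.mem
        have hxc : x ∈ common := by
          refine ⟨isConj_iff.mpr ⟨y * g, by rw [hx, ← hg]; group⟩, fun e => ?_,
            (hcj (hy 0 (by norm_num))).mpr ((cm_iff (by norm_num) hA).mp c0), fun e => ?_,
            (hcj (hy 7 (by norm_num))).mpr ((cm_iff (by norm_num) hA).mp c7)⟩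
          · have := hne (hy 0 (by norm_num)) e
            rw [(show At (tr 0) (tp s.1) from this ▸ hA).inj (at_tr (show 0 < 65 by norm_num)), Nat.beq_refl] at n0
            exact absurd n0 (by decide)
          · have := hne (hy 7 (by norm_num)) e
            rw [(show At (tr 7) (tp s.1) from this ▸ hA).inj (at_tr (show 7 < 65 by norm_num)), Nat.beq_refl] at n7
            exact absurd n7 (by decide)
        obtain ⟨w, hwm, hxw⟩ := common_points hc hxc
        have hb' := hw w hwm
        rw [force_eq, Bool.or_eq_true] at hb'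
        rcases hb' with h | h
        · rw [Nat.eq_of_beq_eq_true h] at hxw
          have e := hxw.eq hA
          exact mul_inv_eq_iff_eq_mul.mp e
        · exfalso
          obtain ⟨k, hk, hkd⟩ := List.any_eq_true.mp h
          have hklt := hsel k hk
          have iff1 : cm k w = true ↔ cm k (tp s.1) = true := by
            rw [cm_iff (hklt.trans hj) hxw, cm_iff (hklt.trans hj) hA]
            exact hcj (ih k hklt (hklt.trans hj))
          cases h1 : cm k w <;> cases h2 : cm k (tp s.1) <;> simp_all
  have hgen : ∀ g ∈ (presFi24.σ '' {i | i < presFi24.k}), Commute y g := by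
    rintro _ ⟨i, hi, rfl⟩
    have hh := gens_ok
    simp only [Bool.and_eq_true, List.all_eq_true, Nat.blt_eq] at hh
    obtain ⟨hlt, hp⟩ := hh.2 i (List.mem_range.mpr hi)
    have := (Nat.eq_of_beq_eq_true hp) ▸ at_tr hlt
    rw [← this.eq (Out.at_gen hi)]
    exact hall _ hlt
  have hz : y ∈ Subgroup.center presFi24.Grp := by
    rw [Subgroup.mem_center_iff]
    intro z
    have hz' : z ∈ Subgroup.centralizer ({y} : Set presFi24.Grp) := by
      refine (Subgroup.closure_le _).mpr ?_ (presFi24.gen_closure ▸ Subgroup.mem_top z)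
      intro g hg
      exact Subgroup.mem_centralizer_singleton_iff.mpr (hgen g hg).eq.symm
    exact Subgroup.mem_centralizer_singleton_iff.mp hz'
  rw [center_eq_bot] at hz
  exact Subgroup.mem_bot.mp hz

end CfsgLib.CosetEnum.Fi24Table.ThreeSeven
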